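import Groth.Agent.StrictTr16.Basic
import Groth.Agent.S12131
import Groth.Agent.RelTildeX.SheafCrit
import Groth.Prelude.Def_BlowUp2

/-!
# Strict transforms and affine direct images
-/

set_option autoImplicit false
set_option backward.isDefEq.respectTransparency false
set_option backward.isDefEq.respectTransparency.types false
set_option linter.style.haveILetI false

universe u

open CategoryTheory CategoryTheory.Limits AlgebraicGeometry TopologicalSpace Opposite

namespace Groth.Agent.StrictPush16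

open Groth.Agent

variable {X : Scheme.{u}} {E : X.IdealSheafData} {P G : X.Modules} {π : P ⟶ G}

theorem isQCoh_kernel_of_torsionQuot (hE : ModPairLib.IsLocPrincipal E) (hP : Coh.IsQCoh P)
    (hπ : StrictTr16.IsTorsionQuot E π) : Coh.IsQCoh (kernel π) := by
  refine QCoh.isQCoh_of_sections (fun U hU f s => ?_) fun U hU f t ht => ?_
  · let D := X.basicOpen f
    let y := (kernel.ι π).app D s
    have hy0 : π.app D y = 0 := (congr(($(kernel.condition π)).app D s) : _)
    obtain ⟨n, hn⟩ := (hπ.2 ⟨D, hU.basicOpen f⟩ y).1 hy0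
    obtain ⟨m, t, ht⟩ := QCoh.exists_pow_smul_eq_map hP hU f y
    have hfg : ((E.ideal ⟨U, hU⟩) ^ n).FG :=
      Submodule.FG.pow (ModPairLib.fg_of_isLocPrincipal hE ⟨U, hU⟩) n
    obtain ⟨s₀, hs₀⟩ := hfg
    have hg : ∀ g ∈ s₀, ∃ l : ℕ, f ^ l • (g • t) = 0 := by
      intro g hg
      refine QCoh.exists_pow_smul_eq_zero hP hU f _ ?_
      rw [QCoh.map_smul', ht, smul_comm]
      refine (congrArg _ (hn _ ?_)).trans (smul_zero _)
      have h1 : g ∈ (E ^ n).ideal ⟨U, hU⟩ := by
        rw [Scheme.IdealSheafData.ideal_pow]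
        show g ∈ (E.ideal ⟨U, hU⟩) ^ n
        rw [← hs₀]
        exact Submodule.subset_span hg
      have h2 := Ideal.mem_map_of_mem (algebraMap Γ(X, U) Γ(X, X.basicOpen f)) h1
      exact ((E ^ n).map_ideal (U := ⟨D, hU.basicOpen f⟩) (V := ⟨U, hU⟩) (X.basicOpen_le f)).le h2
    choose l hl using hg
    let L := s₀.attach.sup fun g => l g.1 g.2
    have hann : ∀ a ∈ (E ^ n).ideal ⟨U, hU⟩, a • (f ^ L • t) = 0 := by
      intro a ha
      rw [Scheme.IdealSheafData.ideal_pow] at ha
      change a ∈ (E.ideal ⟨U, hU⟩) ^ n at ha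
      rw [← hs₀] at ha
      refine Submodule.span_induction (fun g hg => ?_) (zero_smul _ _)
        (fun a b _ _ ha hb => by rw [add_smul, ha, hb, add_zero])
        (fun c a _ ha => by rw [smul_assoc, ha, smul_zero]) ha
      obtain ⟨c, hc⟩ := le_iff_exists_add.1 (Finset.le_sup (f := fun g : s₀ => l g.1 g.2) (Finset.mem_attach _ ⟨g, hg⟩))
      rw [show L = l g hg + c from hc, pow_add, mul_comm, mul_smul, smul_comm, smul_comm g (f ^ l g hg),
        hl g hg, smul_zero]
    obtain ⟨w, hw⟩ := QCoh.exists_kernel_lift π U (f ^ L • t) ((hπ.2 ⟨U, hU⟩ _).2 ⟨n, hann⟩)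
    refine ⟨L + m, w, QCoh.app_injective (kernel.ι π) D ?_⟩
    rw [QCoh.map_app_comm, hw, QCoh.map_smul', ht, Scheme.Modules.Hom.app_smul, pow_add, mul_smul, map_pow]
  · obtain ⟨n, hn⟩ := QCoh.exists_pow_smul_eq_zero hP hU f ((kernel.ι π).app U t) (by
      rw [← QCoh.map_app_comm, ht, map_zero])
    exact ⟨n, QCoh.app_injective (kernel.ι π) U (by rw [Scheme.Modules.Hom.app_smul, hn, map_zero])⟩

theorem isQCoh_of_torsionQuot (hE : ModPairLib.IsLocPrincipal E) (hP : Coh.IsQCoh P)
    (hπ : StrictTr16.IsTorsionQuot E π) : Coh.IsQCoh G := by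
  haveI := hπ.1
  refine (QCoh.isQCoh_iff_iso ((cokernelIsCokernel (kernel.ι π)).coconePointUniqueUpToIso
    (Abelian.epiIsCokernelOfKernel (KernelFork.ofι (kernel.ι π) (kernel.condition π)) (kernelIsKernel π)))).1 ?_
  exact QCoh.isQCoh_cokernel (isQCoh_kernel_of_torsionQuot hE hP hπ) hP _

theorem mem_ideal_pow_map {Y : Scheme.{u}} (h : X ⟶ Y) (J : Y.IdealSheafData) (V : Y.affineOpens) (W : X.affineOpens)
    (e : W.1 ≤ h ⁻¹ᵁ V.1) (n : ℕ) :
    ((J.comap h) ^ n).ideal W = ((J ^ n).ideal V).map (h.appLE V.1 W.1 e).hom := by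
  rw [Scheme.IdealSheafData.ideal_pow, Scheme.IdealSheafData.ideal_pow, Pi.pow_apply, Pi.pow_apply,
    ModPairLib.ideal_comap J h V W e, Ideal.map_pow]

/-- The direct image of a torsion quotient along an affine morphism is a torsion quotient. -/
theorem torsionQuot_pushforward {Y : Scheme.{u}} (h : X ⟶ Y) [IsAffineHom h] (J : Y.IdealSheafData)
    {P G : X.Modules} {π : P ⟶ G} (hP : Coh.IsQCoh P) (hJ : ModPairLib.IsLocPrincipal J)
    (hπ : StrictTr16.IsTorsionQuot (J.comap h) π) {Q : Y.Modules}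
    (β : Q ⟶ (Scheme.Modules.pushforward h).obj P) [IsIso β] :
    StrictTr16.IsTorsionQuot J (β ≫ (Scheme.Modules.pushforward h).map π) := by
  haveI := hπ.1
  have hG : Coh.IsQCoh G := isQCoh_of_torsionQuot (hJ.comap h) hP hπ
  refine ⟨?_, fun V m => ?_⟩
  · haveI : Epi ((Scheme.Modules.pushforward h).map π) := by
      refine RelTildeX.epi_of_locally _ fun U s y hy => ?_
      obtain ⟨_, ⟨V, hV, rfl⟩, hyV, hVU⟩ := Y.isBasis_affineOpens.exists_subset_of_mem_open hy U.isOpen
      obtain ⟨t, ht⟩ := QCoh.app_surjective_of_epi hP hG π (hV.preimage h)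
        (((Scheme.Modules.pushforward h).obj G).presheaf.map (homOfLE hVU).op s)
      exact ⟨V, hVU, hyV, t, ht⟩
    infer_instance
  · let W : X.affineOpens := ⟨h ⁻¹ᵁ V.1, V.2.preimage h⟩
    have hb : Function.Bijective (β.app V.1) := by
      haveI : IsIso (β.app V.1) := inferInstance
      exact ConcreteCategory.bijective_of_isIso _
    refine (hπ.2 W (β.app V.1 m)).trans ⟨fun ⟨n, hn⟩ => ⟨n, fun a ha => hb.1 ?_⟩, fun ⟨n, hn⟩ => ⟨n, fun a ha => ?_⟩⟩
    · rw [Scheme.Modules.Hom.app_smul, map_zero]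
      refine hn _ ?_
      rw [mem_ideal_pow_map h J V W le_rfl n]
      have := Ideal.mem_map_of_mem (h.appLE V.1 W.1 le_rfl).hom ha
      rwa [← Scheme.Hom.app_eq_appLE] at this ⊢
    · rw [mem_ideal_pow_map h J V W le_rfl n] at ha
      refine Submodule.span_induction (fun b hb => ?_) (zero_smul _ _)
        (fun b c _ _ hb hc => (add_smul _ _ _).trans (by rw [hb, hc, add_zero]))
        (fun c b _ hb => (smul_assoc c b _).trans (by rw [hb, smul_zero])) ha
      obtain ⟨r, hr, rfl⟩ := hb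
      have h0 := congrArg (β.app V.1) (hn r hr)
      rw [Scheme.Modules.Hom.app_smul, map_zero] at h0
      rw [← Scheme.Hom.app_eq_appLE]
      exact h0

end Groth.Agent.StrictPush16
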